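import Mathlib

/-!
# A Sylow subgroup inside an abelian subgroup (helper8)

If the abelian subgroup `A` of the finite group `G` contains the full power of `p` dividing the
order of `G`, then the `p`-elements of `A` make up a Sylow `p`-subgroup of `G`.
-/

set_option autoImplicit false

namespace Cfsg.Agent.Lib.Helper8.AltF4

open Subgroup

theorem exists_sylow_le_abelian {G : Type*} [Group G] [Finite G] (p : ℕ) [Fact p.Prime]
    (A : Subgroup G) (hA : ∀ a ∈ A, ∀ b ∈ A, a * b = b * a) (k : ℕ)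
    (hk : Nat.card G = Nat.card A * k) (hpk : ¬ p ∣ k) :
    ∃ P : Sylow p G, (P : Subgroup G) ≤ A ∧ ∀ x ∈ A, x ^ p = 1 → x ∈ P := by
  have hp : p.Prime := Fact.out
  obtain ⟨P₁⟩ : Nonempty (Sylow p A) := inferInstance
  have hk0 : k ≠ 0 := by
    rintro rfl
    rw [mul_zero] at hk
    exact Nat.card_pos.ne' hk
  have hA0 : Nat.card A ≠ 0 := Nat.card_pos.ne'
  have hfac : (Nat.card G).factorization p = (Nat.card A).factorization p := by
    rw [hk, Nat.factorization_mul hA0 hk0, Finsupp.add_apply,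
      Nat.factorization_eq_zero_of_not_dvd hpk, add_zero]
  have hcard : Nat.card ((P₁ : Subgroup A).map A.subtype)
      = p ^ (Nat.card G).factorization p := by
    rw [hfac, ← P₁.card_eq_multiplicity]
    exact Nat.card_congr ((P₁ : Subgroup A).equivMapOfInjective A.subtype
      A.subtype_injective).symm.toEquiv
  refine ⟨Sylow.ofCard _ hcard, ?_, ?_⟩
  · rw [Sylow.coe_ofCard]
    rintro _ ⟨x, -, rfl⟩
    exact x.2
  · intro x hx hxp
    have hnorm : (P₁ : Subgroup A).Normal := by
      constructor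
      intro n hn g
      have e : g * n * g⁻¹ = n := by
        have : g * n = n * g := Subtype.ext (hA _ g.2 _ n.2)
        rw [this]
        group
      rw [e]
      exact hn
    have hpg : IsPGroup p (zpowers (⟨x, hx⟩ : A)) := by
      rintro ⟨y, j, rfl⟩
      refine ⟨1, ?_⟩
      apply Subtype.ext
      show ((⟨x, hx⟩ : A) ^ j) ^ p ^ 1 = 1
      rw [pow_one, ← zpow_natCast, ← zpow_mul, mul_comm, zpow_mul, zpow_natCast]
      have : (⟨x, hx⟩ : A) ^ p = 1 := Subtype.ext hxp
      rw [this, one_zpow]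
    obtain ⟨P₂, hP₂⟩ := hpg.exists_le_sylow
    obtain ⟨g, rfl⟩ := MulAction.exists_smul_eq A P₁ P₂
    rw [Sylow.smul_eq_of_normal] at hP₂
    have hx1 : (⟨x, hx⟩ : A) ∈ P₁ := hP₂ (mem_zpowers _)
    show x ∈ (Sylow.ofCard _ hcard : Subgroup G)
    rw [Sylow.coe_ofCard]
    exact ⟨⟨x, hx⟩, hx1, rfl⟩

end Cfsg.Agent.Lib.Helper8.AltF4
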