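import Mathlib

/-!
# Arithmetic modulo 7 for the large Ree groups (helper8)
-/

set_option autoImplicit false

namespace Cfsg.Agent.Lib.Helper8.AltF4

theorem two_pow_mod7 (m : ℕ) : 2 ^ m % 7 = 2 ^ (m % 3) % 7 := by
  conv_lhs => rw [← Nat.div_add_mod m 3, pow_add, pow_mul]
  rw [Nat.mul_mod, Nat.pow_mod]
  norm_num

theorem q_mod7 (m : ℕ) :
    2 ^ (2 * m + 1) % 7 = 1 ∨ 2 ^ (2 * m + 1) % 7 = 2 ∨ 2 ^ (2 * m + 1) % 7 = 4 := by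
  rw [two_pow_mod7]
  have h : (2 * m + 1) % 3 < 3 := Nat.mod_lt _ (by norm_num)
  interval_cases (2 * m + 1) % 3 <;> simp

/-- the part of the order of `²F₄(q)` outside `(q - 1)²` is prime to 7 -/
theorem cofactor_not_dvd (m : ℕ) :
    ¬ 7 ∣ (2 ^ (2 * m + 1)) ^ 12 * ((2 ^ (2 * m + 1) + 1) * ((2 ^ (2 * m + 1)) ^ 2 + 1) *
      ((2 ^ (2 * m + 1)) ^ 3 + 1) * ((2 ^ (2 * m + 1)) ^ 6 + 1)) := by
  rw [Nat.dvd_iff_mod_eq_zero]
  rcases q_mod7 m with h | h | h <;>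
    simp [Nat.mul_mod, Nat.add_mod, Nat.pow_mod, h]

/-- if 7 divides `q - 1` then `2 ^ m` is 2 modulo 7 -/
theorem two_pow_m_mod7 (m : ℕ) (h : 7 ∣ 2 ^ (2 * m + 1) - 1) : 2 ^ m % 7 = 2 := by
  have h1 : 1 ≤ 2 ^ (2 * m + 1) := Nat.one_le_two_pow
  have h2 : 2 ^ (2 * m + 1) % 7 = 1 := by
    have := Nat.mod_eq_zero_of_dvd h
    omega
  rw [two_pow_mod7] at h2
  have h3 : (2 * m + 1) % 3 < 3 := Nat.mod_lt _ (by norm_num)
  have h4 : (2 * m + 1) % 3 = 0 := by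
    interval_cases h5 : (2 * m + 1) % 3
    · rfl
    · simp at h2
    · simp at h2
  have h6 : m % 3 = 1 := by omega
  rw [two_pow_mod7, h6]
  norm_num

end Cfsg.Agent.Lib.Helper8.AltF4
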