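import Mathlib

/-!
# Fusion in an abelian Sylow subgroup (helper8)

Burnside's argument, for all the elements of a subgroup of an abelian Sylow subgroup at once,
and the consequence: if the `k`-th powers of the normaliser of an abelian Sylow `p`-subgroup
centralise it, then the `k`-th power of any element normalising a `p`-subgroup centralises it.
-/

set_option autoImplicit false

namespace Cfsg.Agent.Lib.Helper8.AltF4

open Subgroup
open scoped Pointwise

section fusion

variable {G : Type*} [Group G] [Finite G] {p : ℕ} [Fact p.Prime]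

omit [Finite G] [Fact p.Prime] in
theorem mem_smul_sylow (P : Sylow p G) (g b : G) :
    b ∈ (g • P : Sylow p G) ↔ g⁻¹ * b * g ∈ P := by
  change b ∈ MulAut.conj g • (P : Subgroup G) ↔ _
  rw [Subgroup.mem_pointwise_smul_iff_inv_smul_mem]
  simp only [MulAut.smul_def, MulAut.conj_inv_apply]
  exact Iff.rfl

/-- Burnside's fusion argument for an abelian Sylow subgroup, for a whole subgroup at once -/
theorem fusion_control (P : Sylow p G) (hP : ∀ a ∈ P, ∀ b ∈ P, a * b = b * a)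
    (S : Subgroup G) (hS : S ≤ P) (y : G) (hy : y ∈ normalizer (S : Set G)) :
    ∃ z ∈ normalizer (P : Set G), ∀ s ∈ S, z * s * z⁻¹ = y * s * y⁻¹ := by
  have h1 : (P : Subgroup G) ≤ centralizer (S : Set G) := by
    intro a ha
    rw [mem_centralizer_iff]
    intro s hs
    exact hP s (hS hs) a ha
  have h2 : ↑(y • P) ≤ centralizer (S : Set G) := by
    intro b hb
    have hb' : y⁻¹ * b * y ∈ P := (mem_smul_sylow P y b).1 hb
    rw [mem_centralizer_iff]
    intro s hs
    have hs' : y⁻¹ * s * y ∈ S := (mem_set_normalizer_iff''.1 hy s).1 hs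
    have e := hP _ (hS hs') _ hb'
    calc s * b = y * ((y⁻¹ * s * y) * (y⁻¹ * b * y)) * y⁻¹ := by group
      _ = y * ((y⁻¹ * b * y) * (y⁻¹ * s * y)) * y⁻¹ := by rw [e]
      _ = b * s := by group
  obtain ⟨c, hc⟩ :=
    MulAction.exists_smul_eq (centralizer (S : Set G)) ((y • P).subtype h2) (P.subtype h1)
  simp_rw [Sylow.smul_subtype, Subgroup.smul_def, smul_smul] at hc
  refine ⟨c * y, Sylow.smul_eq_iff_mem_normalizer.mp (Sylow.subtype_injective hc), ?_⟩
  intro s hs
  have hs' : y * s * y⁻¹ ∈ S := (mem_set_normalizer_iff.1 hy s).1 hs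
  have hcs := (mem_centralizer_iff.1 c.2) _ hs'
  calc (c : G) * y * s * ((c : G) * y)⁻¹ = ((c : G) * (y * s * y⁻¹)) * (c : G)⁻¹ := by group
    _ = ((y * s * y⁻¹) * (c : G)) * (c : G)⁻¹ := by rw [hcs]
    _ = y * s * y⁻¹ := by group

/-- if the `k`-th powers of the normaliser of the abelian Sylow subgroup `P` centralise it, the
`k`-th power of an element normalising a subgroup of `P` centralises that subgroup -/
theorem pow_conj_fix (P : Sylow p G) (hP : ∀ a ∈ P, ∀ b ∈ P, a * b = b * a) (k : ℕ)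
    (hN : ∀ z ∈ normalizer (P : Set G), ∀ a ∈ P, z ^ k * a = a * z ^ k)
    (S : Subgroup G) (hS : S ≤ P) (y : G) (hy : y ∈ normalizer (S : Set G)) :
    ∀ s ∈ S, y ^ k * s = s * y ^ k := by
  obtain ⟨z, hz, hzs⟩ := fusion_control P hP S hS y hy
  have key : ∀ j : ℕ, ∀ s ∈ S, z ^ j * s * (z ^ j)⁻¹ = y ^ j * s * (y ^ j)⁻¹ ∧
      y ^ j * s * (y ^ j)⁻¹ ∈ S := by
    intro j
    induction j with
    | zero => intro s hs; simpa using hs
    | succ j ih =>
      intro s hs
      obtain ⟨e1, e2⟩ := ih s hs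
      have e3 := hzs _ e2
      have e4 : y * (y ^ j * s * (y ^ j)⁻¹) * y⁻¹ ∈ S := (mem_set_normalizer_iff.1 hy _).1 e2
      have e5 : y ^ (j + 1) * s * (y ^ (j + 1))⁻¹ = y * (y ^ j * s * (y ^ j)⁻¹) * y⁻¹ := by
        rw [pow_succ']; group
      refine ⟨?_, by rw [e5]; exact e4⟩
      rw [e5, ← e3, ← e1, pow_succ']
      group
  intro s hs
  have e1 := (key k s hs).1
  have e2 := hN z hz s (hS hs)
  have e3 : z ^ k * s * (z ^ k)⁻¹ = s := by rw [e2]; group
  rw [e3] at e1
  calc y ^ k * s = (y ^ k * s * (y ^ k)⁻¹) * y ^ k := by group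
    _ = s * y ^ k := by rw [← e1]

/-- the hypotheses pass to the conjugates of the Sylow subgroup -/
theorem good_smul (P : Sylow p G) (hP : ∀ a ∈ P, ∀ b ∈ P, a * b = b * a) (k : ℕ)
    (hN : ∀ z ∈ normalizer (P : Set G), ∀ a ∈ P, z ^ k * a = a * z ^ k) (g : G) :
    (∀ a ∈ (g • P : Sylow p G), ∀ b ∈ (g • P : Sylow p G), a * b = b * a) ∧
    ∀ z ∈ normalizer ((g • P : Sylow p G) : Set G), ∀ a ∈ (g • P : Sylow p G),
      z ^ k * a = a * z ^ k := by
  constructor
  · intro a ha b hb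
    have ha' := (mem_smul_sylow P g a).1 ha
    have hb' := (mem_smul_sylow P g b).1 hb
    have e := hP _ ha' _ hb'
    calc a * b = g * ((g⁻¹ * a * g) * (g⁻¹ * b * g)) * g⁻¹ := by group
      _ = g * ((g⁻¹ * b * g) * (g⁻¹ * a * g)) * g⁻¹ := by rw [e]
      _ = b * a := by group
  · intro z hz a ha
    have ha' := (mem_smul_sylow P g a).1 ha
    have hz' : g⁻¹ * z * g ∈ normalizer (P : Set G) := by
      rw [mem_set_normalizer_iff]
      intro x
      have h1 := (mem_set_normalizer_iff.1 hz) (g * x * g⁻¹)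
      have h2 : (g * x * g⁻¹ ∈ ((g • P : Sylow p G) : Set G)) ↔ x ∈ (P : Set G) := by
        show g * x * g⁻¹ ∈ (g • P : Sylow p G) ↔ x ∈ P
        rw [mem_smul_sylow]
        have : g⁻¹ * (g * x * g⁻¹) * g = x := by group
        rw [this]
      have h3 : (z * (g * x * g⁻¹) * z⁻¹ ∈ ((g • P : Sylow p G) : Set G)) ↔
          g⁻¹ * z * g * x * (g⁻¹ * z * g)⁻¹ ∈ (P : Set G) := by
        show z * (g * x * g⁻¹) * z⁻¹ ∈ (g • P : Sylow p G) ↔ _ ∈ P
        rw [mem_smul_sylow]
        have : g⁻¹ * (z * (g * x * g⁻¹) * z⁻¹) * g = g⁻¹ * z * g * x * (g⁻¹ * z * g)⁻¹ := by group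
        rw [this]
      rw [← h2, h1, h3]
    have e := hN _ hz' _ ha'
    have e2 : (g⁻¹ * z * g) ^ k = g⁻¹ * z ^ k * g := by
      have := (MulAut.conj g⁻¹).toMonoidHom.map_pow z k
      simpa [MulAut.conj_apply] using this.symm
    rw [e2] at e
    calc z ^ k * a = g * ((g⁻¹ * z ^ k * g) * (g⁻¹ * a * g)) * g⁻¹ := by group
      _ = g * ((g⁻¹ * a * g) * (g⁻¹ * z ^ k * g)) * g⁻¹ := by rw [e]
      _ = a * z ^ k := by group

/-- the `k`-th power of an element normalising a `p`-subgroup centralises it -/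
theorem pow_conj_fix' (P : Sylow p G) (hP : ∀ a ∈ P, ∀ b ∈ P, a * b = b * a) (k : ℕ)
    (hN : ∀ z ∈ normalizer (P : Set G), ∀ a ∈ P, z ^ k * a = a * z ^ k)
    (S : Subgroup G) (hS : IsPGroup p S) (y : G) (hy : y ∈ normalizer (S : Set G)) :
    ∀ s ∈ S, y ^ k * s = s * y ^ k := by
  obtain ⟨Q, hQ⟩ := hS.exists_le_sylow
  obtain ⟨g, rfl⟩ := MulAction.exists_smul_eq G P Q
  obtain ⟨h1, h2⟩ := good_smul P hP k hN g
  exact pow_conj_fix (g • P) h1 k h2 S hQ y hy

end fusion

end Cfsg.Agent.Lib.Helper8.AltF4
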