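import Mathlib

/-!
# Lifting a Frobenius group of order 21 from a quotient (helper8)

If a quotient of the finite group `H` contains elements `σ` of order 7 and `τ` with
`τ σ τ⁻¹ = σ²`, then, by Frattini's argument, `H` has a 7-subgroup `S`, an element `y` normalising
it and an element `s` of `S` whose images `σ'`, `τ'` satisfy the same relations.
-/

set_option autoImplicit false

namespace Cfsg.Agent.Lib.Helper8.AltF4

open Subgroup

theorem conj_zpowers_iff {Q : Type*} [Group Q] (σ τ : Q) (hσ : σ ^ 7 = 1)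
    (hτ : τ * σ * τ⁻¹ = σ ^ 2) (c : Q) :
    c ∈ zpowers σ ↔ τ * c * τ⁻¹ ∈ zpowers σ := by
  have hconj : ∀ k : ℤ, τ * σ ^ k * τ⁻¹ = (σ ^ 2) ^ k := by
    intro k
    have := (MulAut.conj τ).toMonoidHom.map_zpow σ k
    simp only [MulEquiv.coe_toMonoidHom, MulAut.conj_apply] at this
    rw [this, hτ]
  -- ρ = τ⁻¹ σ τ is `σ ^ 4`
  have hρ2 : (τ⁻¹ * σ * τ) ^ 2 = σ := by
    have h1 : (τ⁻¹ * σ * τ) ^ 2 = τ⁻¹ * σ ^ 2 * τ := by
      have := (MulAut.conj τ⁻¹).toMonoidHom.map_pow σ 2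
      simp only [MulEquiv.coe_toMonoidHom, MulAut.conj_apply, inv_inv] at this
      exact this.symm
    rw [h1, ← hτ]
    group
  have hρ7 : (τ⁻¹ * σ * τ) ^ 7 = 1 := by
    have := (MulAut.conj τ⁻¹).toMonoidHom.map_pow σ 7
    simp only [MulEquiv.coe_toMonoidHom, MulAut.conj_apply, inv_inv] at this
    rw [← this, hσ]
    group
  have hρ : τ⁻¹ * σ * τ = σ ^ 4 := by
    calc τ⁻¹ * σ * τ = (τ⁻¹ * σ * τ) ^ 7 * (τ⁻¹ * σ * τ) := by rw [hρ7, one_mul]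
      _ = ((τ⁻¹ * σ * τ) ^ 2) ^ 4 := by rw [← pow_mul, ← pow_succ]
      _ = σ ^ 4 := by rw [hρ2]
  have hconj' : ∀ k : ℤ, τ⁻¹ * σ ^ k * τ = (σ ^ 4) ^ k := by
    intro k
    have := (MulAut.conj τ⁻¹).toMonoidHom.map_zpow σ k
    simp only [MulEquiv.coe_toMonoidHom, MulAut.conj_apply, inv_inv] at this
    rw [this, hρ]
  constructor
  · rintro ⟨k, rfl⟩
    show τ * σ ^ k * τ⁻¹ ∈ zpowers σ
    rw [hconj k]
    exact Subgroup.zpow_mem _ (Subgroup.pow_mem _ (mem_zpowers σ) 2) k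
  · rintro ⟨k, hk⟩
    have hk' : σ ^ k = τ * c * τ⁻¹ := hk
    have e : c = τ⁻¹ * σ ^ k * τ := by rw [hk']; group
    rw [e, hconj' k]
    exact Subgroup.zpow_mem _ (Subgroup.pow_mem _ (mem_zpowers σ) 4) k

theorem exists_normalizing_lift {H Q : Type*} [Group H] [Finite H] [Group Q] (π : H →* Q)
    (hπ : Function.Surjective π) (σ τ : Q) (hσ : σ ^ 7 = 1) (hσ1 : σ ≠ 1)
    (hτ : τ * σ * τ⁻¹ = σ ^ 2) :
    ∃ (S : Subgroup H) (y s : H), IsPGroup 7 S ∧ y ∈ normalizer (S : Set H) ∧ s ∈ S ∧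
      π s ≠ 1 ∧ (π s) ^ 7 = 1 ∧ π y * π s * (π y)⁻¹ = (π s) ^ 2 := by
  have : Fact (Nat.Prime 7) := ⟨by norm_num⟩
  have hord : orderOf σ = 7 := orderOf_eq_prime hσ hσ1
  set M₀ : Subgroup H := (zpowers σ).comap π with hM₀
  obtain ⟨t, ht⟩ := hπ τ
  obtain ⟨s₀, hs₀⟩ := hπ σ
  have htL : t ∈ normalizer (M₀ : Set H) := by
    rw [mem_set_normalizer_iff]
    intro x
    show π x ∈ zpowers σ ↔ π (t * x * t⁻¹) ∈ zpowers σ
    rw [map_mul, map_mul, map_inv, ht]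
    exact conj_zpowers_iff σ τ hσ hτ (π x)
  -- the 7-part of `s₀`
  have ho : orderOf s₀ ≠ 0 := (orderOf_pos s₀).ne'
  obtain ⟨a, b, hb, hab⟩ := Nat.exists_eq_pow_mul_and_not_dvd ho 7 (by norm_num)
  set s₁ : H := s₀ ^ b with hs₁
  have hs₁pow : s₁ ^ 7 ^ a = 1 := by
    rw [hs₁, ← pow_mul, mul_comm, ← hab, pow_orderOf_eq_one]
  have hπs₁ : π s₁ = σ ^ b := by rw [hs₁, map_pow, hs₀]
  have hπs₁_ne : π s₁ ≠ 1 := by
    rw [hπs₁]
    intro h
    have := orderOf_dvd_of_pow_eq_one h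
    rw [hord] at this
    exact hb this
  have hπs₁7 : (π s₁) ^ 7 = 1 := by
    rw [hπs₁, ← pow_mul, mul_comm, pow_mul, hσ, one_pow]
  have hs₁M : s₁ ∈ M₀ := by
    show π s₁ ∈ zpowers σ
    rw [hπs₁]
    exact Subgroup.pow_mem _ (mem_zpowers σ) b
  -- the groups
  set L : Subgroup H := normalizer (M₀ : Set H) with hL
  have hML : M₀ ≤ L := le_normalizer
  set N : Subgroup L := M₀.subgroupOf L with hN
  have : N.Normal := normal_in_normalizer
  let s₁' : L := ⟨s₁, hML hs₁M⟩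
  have hs₁'N : s₁' ∈ N := by
    rw [hN, mem_subgroupOf]
    exact hs₁M
  let s₁'' : N := ⟨s₁', hs₁'N⟩
  have hpg : IsPGroup 7 (zpowers s₁'') := by
    rintro ⟨x, k, rfl⟩
    refine ⟨a, ?_⟩
    apply Subtype.ext
    show (s₁'' ^ k) ^ 7 ^ a = 1
    rw [← zpow_natCast, ← zpow_mul, mul_comm, zpow_mul, zpow_natCast]
    have : s₁'' ^ 7 ^ a = 1 := by
      apply Subtype.ext
      apply Subtype.ext
      exact hs₁pow
    rw [this, one_zpow]
  obtain ⟨P, hP⟩ := hpg.exists_le_sylow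
  have hfr := Sylow.normalizer_sup_eq_top P
  have ht' : (⟨t, htL⟩ : L) ∈ normalizer (((P : Subgroup N).map N.subtype : Subgroup L) : Set L) ⊔ N := by
    rw [hfr]
    exact mem_top _
  rw [mem_sup_of_normal_right] at ht'
  obtain ⟨y', hy', n, hn, hyn⟩ := ht'
  refine ⟨((P : Subgroup N).map N.subtype).map L.subtype, (y' : H), s₁, ?_, ?_, ?_, hπs₁_ne,
    hπs₁7, ?_⟩
  · exact (P.isPGroup'.map _).map _
  · have h1 : (y' : H) ∈ (normalizer (((P : Subgroup N).map N.subtype : Subgroup L) : Set L)).map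
        L.subtype := ⟨y', hy', rfl⟩
    exact le_normalizer_map L.subtype h1
  · refine ⟨s₁', ⟨s₁'', hP (mem_zpowers s₁''), rfl⟩, rfl⟩
  · have hnM : (n : H) ∈ M₀ := by
      rw [hN, mem_subgroupOf] at hn
      exact hn
    have hnC : π (n : H) ∈ zpowers σ := hnM
    obtain ⟨j, hj⟩ := hnC
    have hy : (y' : H) = t * (n : H)⁻¹ := by
      have : ((y' * n : L) : H) = t := by rw [hyn]
      rw [← this]
      push_cast
      group
    rw [hy, map_mul, map_inv, ht, hπs₁, ← hj]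
    have hc : (σ ^ j)⁻¹ * σ ^ b * ((σ ^ j)⁻¹)⁻¹ = σ ^ b := by
      rw [inv_inv, ← zpow_natCast σ b, ← zpow_neg, ← zpow_add, ← zpow_add]
      congr 1
      ring
    calc τ * (σ ^ j)⁻¹ * σ ^ b * (τ * (σ ^ j)⁻¹)⁻¹
        = τ * ((σ ^ j)⁻¹ * σ ^ b * ((σ ^ j)⁻¹)⁻¹) * τ⁻¹ := by group
      _ = τ * σ ^ b * τ⁻¹ := by rw [hc]
      _ = (τ * σ * τ⁻¹) ^ b := by
          have := (MulAut.conj τ).toMonoidHom.map_pow σ b
          simp only [MulEquiv.coe_toMonoidHom, MulAut.conj_apply] at this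
          exact this
      _ = (σ ^ b) ^ 2 := by rw [hτ, ← pow_mul, ← pow_mul, mul_comm]

end Cfsg.Agent.Lib.Helper8.AltF4
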