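import Cfsg.Agent.Lib.Helper8.AltF4.Fusion
import Cfsg.Agent.Lib.Helper8.AltF4.Lift
import Mathlib

/-!
# Alternating sections and the 7-local structure (helper8)

If a finite group has an abelian Sylow 7-subgroup `P` such that the sixteenth powers of the
elements of its normaliser centralise it, then no section of the group is an alternating group of
degree at least 7: such a section contains a Frobenius group of order 21.
-/

set_option autoImplicit false

namespace Cfsg.Agent.Lib.Helper8.AltF4

open Subgroup Equiv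

/-- the 7-cycle -/
def sig7 : Perm (Fin 7) := finRotate 7

/-- multiplication by 2 on the integers modulo 7 -/
def tau7 : Perm (Fin 7) := ⟨fun i => 2 * i, fun i => 4 * i, by decide, by decide⟩

theorem sig7_pow : sig7 ^ 7 = 1 := by decide
theorem sig7_ne : sig7 ≠ 1 := by decide
theorem tau7_conj : tau7 * sig7 * tau7⁻¹ = sig7 ^ 2 := by decide
theorem sig7_sign : Perm.sign sig7 = 1 := by decide
theorem tau7_sign : Perm.sign tau7 = 1 := by decide

/-- an alternating group of degree at least 7 contains a Frobenius group of order 21 -/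
theorem exists_frobenius21 (r : ℕ) (hr : 7 ≤ r) :
    ∃ σ τ : alternatingGroup (Fin r), σ ^ 7 = 1 ∧ σ ≠ 1 ∧ τ * σ * τ⁻¹ = σ ^ 2 := by
  classical
  let f : Fin 7 ≃ {x : Fin r // x ∈ Set.range (Fin.castLE hr)} :=
    Equiv.ofInjective (Fin.castLE hr) (Fin.castLE_injective hr)
  let E : Perm (Fin 7) →* Perm (Fin r) := Perm.extendDomainHom f
  have hE : Function.Injective E := Perm.extendDomainHom_injective f
  have hsign : ∀ e : Perm (Fin 7), Perm.sign (E e) = Perm.sign e := fun e =>
    Perm.sign_extendDomain e f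
  refine ⟨⟨E sig7, by rw [Perm.mem_alternatingGroup, hsign, sig7_sign]⟩,
    ⟨E tau7, by rw [Perm.mem_alternatingGroup, hsign, tau7_sign]⟩, ?_, ?_, ?_⟩
  · apply Subtype.ext
    show (E sig7) ^ 7 = 1
    rw [← map_pow, sig7_pow, map_one]
  · intro h
    have h' : E sig7 = 1 := congrArg Subtype.val h
    rw [← map_one E] at h'
    exact sig7_ne (hE h')
  · apply Subtype.ext
    show E tau7 * E sig7 * (E tau7)⁻¹ = (E sig7) ^ 2
    rw [← map_inv, ← map_mul, ← map_mul, ← map_pow, tau7_conj]

/-- no alternating section of degree at least 7 -/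
theorem alt_section_bound {G : Type*} [Group G] [Finite G] (P : Sylow 7 G)
    (hab : ∀ a ∈ P, ∀ b ∈ P, a * b = b * a)
    (hN : ∀ z ∈ normalizer (P : Set G), ∀ a ∈ P, z ^ 16 * a = a * z ^ 16)
    (r : ℕ) (H : Subgroup G) (N : Subgroup H) [N.Normal]
    (h : Nonempty (H ⧸ N ≃* alternatingGroup (Fin r))) : r ≤ 6 := by
  have : Fact (Nat.Prime 7) := ⟨by norm_num⟩
  by_contra hr
  rw [not_le] at hr
  obtain ⟨e⟩ := h
  obtain ⟨σ, τ, h7, h1, hτ⟩ := exists_frobenius21 r hr
  let π : H →* alternatingGroup (Fin r) := e.toMonoidHom.comp (QuotientGroup.mk' N)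
  have hπ : Function.Surjective π := e.surjective.comp (QuotientGroup.mk'_surjective N)
  obtain ⟨S, y, s, hS, hy, hs, hs1, hs7, hys⟩ := exists_normalizing_lift π hπ σ τ h7 h1 hτ
  have hSG : IsPGroup 7 (S.map H.subtype) := hS.map _
  have hyG : (y : G) ∈ normalizer ((S.map H.subtype : Subgroup G) : Set G) :=
    le_normalizer_map H.subtype ⟨y, hy, rfl⟩
  have hc := pow_conj_fix' P hab 16 hN (S.map H.subtype) hSG (y : G) hyG (s : G) ⟨s, hs, rfl⟩
  have hc' : y ^ 16 * s = s * y ^ 16 := Subtype.ext (by push_cast; exact hc)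
  have key : ∀ j : ℕ, (π y) ^ j * π s * ((π y) ^ j)⁻¹ = (π s) ^ (2 ^ j) := by
    intro j
    induction j with
    | zero => simp
    | succ j ih =>
      calc (π y) ^ (j + 1) * π s * ((π y) ^ (j + 1))⁻¹
          = π y * ((π y) ^ j * π s * ((π y) ^ j)⁻¹) * (π y)⁻¹ := by rw [pow_succ']; group
        _ = π y * (π s) ^ (2 ^ j) * (π y)⁻¹ := by rw [ih]
        _ = (π y * π s * (π y)⁻¹) ^ (2 ^ j) := by
            have := (MulAut.conj (π y)).toMonoidHom.map_pow (π s) (2 ^ j)
            simp only [MulEquiv.coe_toMonoidHom, MulAut.conj_apply] at this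
            exact this
        _ = ((π s) ^ 2) ^ (2 ^ j) := by rw [hys]
        _ = (π s) ^ (2 ^ (j + 1)) := by rw [← pow_mul, pow_succ']
  have e1 := key 16
  have e2 : (π y) ^ 16 * π s * ((π y) ^ 16)⁻¹ = π s := by
    have := congrArg π hc'
    rw [map_mul, map_mul, map_pow] at this
    rw [this]
    group
  rw [e2] at e1
  have e3 : (π s) ^ (2 ^ 16) = (π s) ^ 2 := by
    have : (2 : ℕ) ^ 16 = 7 * 9362 + 2 := by norm_num
    rw [this, pow_add, pow_mul, hs7, one_pow, one_mul]
  rw [e3] at e1
  apply hs1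
  have : π s * 1 = π s * π s := by rw [mul_one, ← sq]; exact e1
  exact (mul_left_cancel this).symm

end Cfsg.Agent.Lib.Helper8.AltF4
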