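import Cfsg.Agent.Lib.Helper8.AltF4.Norm
import Cfsg.Agent.Lib.Helper8.AltF4.AbSyl
import Cfsg.Agent.Lib.Helper8.AltF4.Arith
import Cfsg.Agent.Lib.Helper8.AltF4.Section
import Mathlib

/-!
# Alternating sections of the large Ree groups (helper8)

The Sylow 7-subgroup of `²F₄(q)` lies in `H¹`, its normaliser in `N¹`, and `N¹ / H¹` is a
2-group: no section of `²F₄(q)` is an alternating group of degree at least 7.
-/

set_option autoImplicit false
set_option maxRecDepth 100000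

namespace Cfsg.Agent.Lib.Helper8.AltF4

open Cfsg.Lie Cfsg.Agent.Lib.Helper5.Chev Cfsg.Agent.Lib.Helper5.GA Cfsg.Agent.Lib.Helper5.Tw
open Cfsg.Agent.Lib.Helper5.Frob Cfsg.Agent.Lib.Helper5.Ree Cfsg.Agent.Lib.Helper5.St
open Cfsg.Agent.Lib.Helper5.F4W
open Cfsg.Agent.Lib.Helper8.F4T
open scoped Matrix

section

variable {K : Type*} [Field K] [Fintype K] [CharP K 2] {m : ℕ}

/-- the 7-local structure of the large Ree group -/
theorem sylow7_structure (hK : Fintype.card K = 2 ^ (2 * m + 1)) :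
    ∃ P : Sylow 7 ↥(twistedF4 K (2 ^ m)), (∀ a ∈ P, ∀ b ∈ P, a * b = b * a) ∧
      ∀ z ∈ Subgroup.normalizer (P : Set ↥(twistedF4 K (2 ^ m))), ∀ a ∈ P,
        z ^ 16 * a = a * z ^ 16 := by
  classical
  have : Fact (Nat.Prime 7) := ⟨by norm_num⟩
  set T : Subgroup (GL chevF4.Idx K) := twistedF4 K (2 ^ m) with hT
  set A : Subgroup T := (chevF4.diagonalSubgroup K ⊓ T).subgroupOf T with hAdef
  have hA : ∀ a ∈ A, ∀ b ∈ A, a * b = b * a := by
    intro a ha b hb
    rw [hAdef, Subgroup.mem_subgroupOf] at ha hb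
    exact Subtype.ext (diag_comm _ _ ha.1 hb.1)
  have hcA : Nat.card A = (2 ^ (2 * m + 1) - 1) ^ 2 := by
    rw [← card_diag_twisted hK]
    exact Nat.card_congr (Subgroup.subgroupOfEquivOfLe inf_le_right).toEquiv
  have hcT : Nat.card T = Nat.card A * ((2 ^ (2 * m + 1)) ^ 12 * ((2 ^ (2 * m + 1) + 1) *
      ((2 ^ (2 * m + 1)) ^ 2 + 1) * ((2 ^ (2 * m + 1)) ^ 3 + 1) * ((2 ^ (2 * m + 1)) ^ 6 + 1))) := by
    rw [hcA, hT, card_twisted_sum hK, sum_pow_aOf]
    ring
  obtain ⟨P, hPA, hP7⟩ := exists_sylow_le_abelian 7 A hA _ hcT (cofactor_not_dvd m)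
  refine ⟨P, fun a ha b hb => hA a (hPA ha) b (hPA hb), ?_⟩
  by_cases h7 : 7 ∣ 2 ^ (2 * m + 1) - 1
  · have hm7 := two_pow_m_mod7 m h7
    obtain ⟨ζ, hζ⟩ : ∃ ζ : Kˣ, orderOf ζ = 7 := by
      apply exists_prime_orderOf_dvd_card' 7
      rw [Nat.card_eq_fintype_card, Fintype.card_units, hK]
      exact h7
    have hζ7 : ζ ^ 7 = 1 := by rw [← hζ, pow_orderOf_eq_one]
    have hmemP : ∀ μ : Kˣ × Kˣ, μ ^ 7 = 1 →
        (⟨tauT K m μ, tauT_mem_twisted hK μ⟩ : T) ∈ P := by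
      intro μ hμ
      apply hP7
      · rw [hAdef, Subgroup.mem_subgroupOf]
        exact ⟨tauT_mem_diag hK μ, tauT_mem_twisted hK μ⟩
      · apply Subtype.ext
        show (tauT K m μ) ^ 7 = 1
        rw [← map_pow, hμ, map_one]
    have he₁ := hmemP (ζ, 1) (by rw [Prod.pow_mk, hζ7, one_pow]; rfl)
    have he₂ := hmemP (1, ζ) (by rw [Prod.pow_mk, hζ7, one_pow]; rfl)
    intro z hz a ha
    set P₀ : Subgroup (GL chevF4.Idx K) := (P : Subgroup T).map T.subtype with hP₀def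
    have hP₀ : P₀ ≤ chevF4.diagonalSubgroup K ⊓ T := by
      rintro _ ⟨x, hx, rfl⟩
      have := hPA hx
      rw [hAdef, Subgroup.mem_subgroupOf] at this
      exact this
    have hzP : ∀ t, t ∈ P₀ ↔ (z : GL chevF4.Idx K) * t * (z : GL chevF4.Idx K)⁻¹ ∈ P₀ := by
      intro t
      constructor
      · rintro ⟨x, hx, rfl⟩
        exact ⟨z * x * z⁻¹, (Subgroup.mem_set_normalizer_iff.1 hz x).1 hx, rfl⟩
      · rintro ⟨w, hw, hwe⟩
        have hw' : z⁻¹ * w * z ∈ P := (Subgroup.mem_set_normalizer_iff''.1 hz w).1 hw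
        refine ⟨z⁻¹ * w * z, hw', ?_⟩
        have e1 : (T.subtype w : GL chevF4.Idx K) = (z : GL chevF4.Idx K) * t * (z : GL chevF4.Idx K)⁻¹ := hwe
        show ((z⁻¹ * w * z : T) : GL chevF4.Idx K) = t
        push_cast
        have e2 : ((w : T) : GL chevF4.Idx K) = (z : GL chevF4.Idx K) * t * (z : GL chevF4.Idx K)⁻¹ := e1
        rw [e2]
        group
    have hzN := normalizer_mono hK hm7 ζ hζ P₀ hP₀ ⟨_, he₁, rfl⟩ ⟨_, he₂, rfl⟩ (z : GL chevF4.Idx K)
      z.2 hzP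
    have h16 := pow16_mem_diag hK _ hzN
    have haD : (a : GL chevF4.Idx K) ∈ chevF4.diagonalSubgroup K := (hP₀ ⟨a, ha, rfl⟩).1
    apply Subtype.ext
    show (z : GL chevF4.Idx K) ^ 16 * (a : GL chevF4.Idx K) = (a : GL chevF4.Idx K) * (z : GL chevF4.Idx K) ^ 16
    exact diag_comm _ _ h16.1 haD
  · intro z _ a ha
    have hnd : ¬ 7 ∣ Nat.card T := by
      rw [hcT, hcA]
      intro hd
      rcases (Nat.Prime.dvd_mul (by norm_num)).1 hd with h | h
      · exact h7 (Nat.Prime.dvd_of_dvd_pow (by norm_num) h)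
      · exact cofactor_not_dvd m h
    have hc1 : Nat.card (P : Subgroup T) = 1 := by
      rw [P.card_eq_multiplicity, Nat.factorization_eq_zero_of_not_dvd hnd, pow_zero]
    have hbot : (P : Subgroup T) = ⊥ := Subgroup.eq_bot_of_card_eq _ hc1
    have ha1 : a = 1 := by
      have : a ∈ (P : Subgroup T) := ha
      rw [hbot, Subgroup.mem_bot] at this
      exact this
    rw [ha1, mul_one, one_mul]

/-- no section of the large Ree group is an alternating group of degree at least 7 -/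
theorem alt_section_twistedF4 (hK : Fintype.card K = 2 ^ (2 * m + 1)) (r : ℕ)
    (H : Subgroup ↥(twistedF4 K (2 ^ m))) (N : Subgroup ↥H) [N.Normal]
    (h : Nonempty (↥H ⧸ N ≃* ↥(alternatingGroup (Fin r)))) : r ≤ 6 := by
  obtain ⟨P, hab, hN⟩ := sylow7_structure (m := m) hK
  exact alt_section_bound P hab hN r H N h

end

end Cfsg.Agent.Lib.Helper8.AltF4
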