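import Cfsg.Agent.Lib.Helper8.AltF4.Torus7
import Cfsg.Agent.Lib.Helper5.Chev.BruhatH
import Mathlib

/-!
# The normaliser of the Sylow 7-subgroup of the torus of the large Ree group (helper8)

When 7 divides `q - 1`, an element of `²F₄(q)` normalising a subgroup of `H¹` which contains the
two elements `tauT (ζ, 1)` and `tauT (1, ζ)` lies in `N¹`; its sixteenth power lies in `H¹`.
-/

set_option autoImplicit false
set_option maxRecDepth 100000

namespace Cfsg.Agent.Lib.Helper8.AltF4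

open Cfsg.Lie Cfsg.Agent.Lib.Helper5.Chev Cfsg.Agent.Lib.Helper5.GA Cfsg.Agent.Lib.Helper5.Tw
open Cfsg.Agent.Lib.Helper5.Frob Cfsg.Agent.Lib.Helper5.Ree Cfsg.Agent.Lib.Helper5.St
open Cfsg.Agent.Lib.Helper5.F4W
open Cfsg.Agent.Lib.Helper8.F4T
open scoped Matrix

section

variable {K : Type*} [Field K] [Fintype K] [CharP K 2] {m : ℕ}

/-- uniqueness of the cell decomposition -/
theorem cell_unique (hK : Fintype.card K = 2 ^ (2 * m + 1)) (g : DihedralGroup 8)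
    (u v h k u' v' : GL chevF4.Idx K)
    (hu : u ∈ chevF4.posUnipotent K ⊓ twistedF4 K (2 ^ m))
    (hv : v ∈ chevF4.posUnipotent K ⊓ twistedF4 K (2 ^ m))
    (hh : h ∈ chevF4.diagonalSubgroup K ⊓ twistedF4 K (2 ^ m))
    (hk : k ∈ chevF4.diagonalSubgroup K ⊓ twistedF4 K (2 ^ m))
    (hu' : u' ∈ Uw hK g) (hv' : v' ∈ Uw hK g)
    (e : u * nW K (wd g) * h * u' = v * nW K (wd g) * k * v') : u = v ∧ h = k ∧ u' = v' := by
  have := (cellMap_bijective hK).1 (a₁ := ⟨g, ⟨u, hu⟩, ⟨h, hh⟩, ⟨u', hu'⟩⟩)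
    (a₂ := ⟨g, ⟨v, hv⟩, ⟨k, hk⟩, ⟨v', hv'⟩⟩) (Subtype.ext e)
  have h2 : ((⟨u, hu⟩, ⟨h, hh⟩, ⟨u', hu'⟩) : ↥(chevF4.posUnipotent K ⊓ twistedF4 K (2 ^ m)) ×
      ↥(chevF4.diagonalSubgroup K ⊓ twistedF4 K (2 ^ m)) × ↥(Uw hK g))
      = (⟨v, hv⟩, ⟨k, hk⟩, ⟨v', hv'⟩) := eq_of_heq (Sigma.mk.inj_iff.1 this).2
  simp only [Prod.mk.injEq, Subtype.mk.injEq] at h2
  exact h2

/-- existence of the cell decomposition -/
theorem cell_exists (hK : Fintype.card K = 2 ^ (2 * m + 1)) (z : GL chevF4.Idx K)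
    (hz : z ∈ twistedF4 K (2 ^ m)) :
    ∃ (g : DihedralGroup 8) (u h u' : GL chevF4.Idx K),
      u ∈ chevF4.posUnipotent K ⊓ twistedF4 K (2 ^ m) ∧
      h ∈ chevF4.diagonalSubgroup K ⊓ twistedF4 K (2 ^ m) ∧ u' ∈ Uw hK g ∧
      z = u * nW K (wd g) * h * u' := by
  obtain ⟨⟨g, u, h, u'⟩, hx⟩ := (cellMap_bijective hK).2 ⟨z, hz⟩
  exact ⟨g, u, h, u', u.2, h.2, u'.2, (congrArg Subtype.val hx).symm⟩

/-- the normaliser of a subgroup of `H¹` containing the two elements of order 7 lies in `N¹` -/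
theorem normalizer_mono (hK : Fintype.card K = 2 ^ (2 * m + 1)) (hm7 : 2 ^ m % 7 = 2) (ζ : Kˣ)
    (hζ : orderOf ζ = 7) (P₀ : Subgroup (GL chevF4.Idx K))
    (hP₀ : P₀ ≤ chevF4.diagonalSubgroup K ⊓ twistedF4 K (2 ^ m))
    (he₁ : tauT K m (ζ, 1) ∈ P₀) (he₂ : tauT K m (1, ζ) ∈ P₀)
    (z : GL chevF4.Idx K) (hz : z ∈ twistedF4 K (2 ^ m))
    (hzP : ∀ t, t ∈ P₀ ↔ z * t * z⁻¹ ∈ P₀) :
    z ∈ chevF4.monomialSubgroup K ⊓ twistedF4 K (2 ^ m) := by
  have hHN : chevF4.diagonalSubgroup K ≤ chevF4.monomialSubgroup K := le_sup_left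
  have hHU : chevF4.diagonalSubgroup K
      ≤ Subgroup.normalizer (chevF4.posUnipotent K : Set (GL chevF4.Idx K)) :=
    diagonal_le_normalizer hD4 chevF4.IsPosRoot (fun r hr => hr.1)
  obtain ⟨g, u, h, u', hu, hh, hu', e⟩ := cell_exists hK z hz
  have hnt : nW K (wd g) ∈ twistedF4 K (2 ^ m) := nW_wd_mem_twisted g
  have key : ∀ t ∈ P₀, z * t * z⁻¹ * u * (z * t * z⁻¹)⁻¹ = u ∧ t⁻¹ * u' * t = u' := by
    intro t ht
    have ht' : z * t * z⁻¹ ∈ P₀ := (hzP t).1 ht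
    set t' := z * t * z⁻¹ with ht'def
    have htd := hP₀ ht
    have ht'd := hP₀ ht'
    have m1 : h * t ∈ chevF4.diagonalSubgroup K ⊓ twistedF4 K (2 ^ m) := Subgroup.mul_mem _ hh htd
    have m2 : t⁻¹ * u' * t ∈ Uw hK g := by
      rw [← Uw_eq hK g 1 (Subgroup.one_mem _)]
      have hu'1 : u' ∈ Subgroup.closure (unegSet K chevF4 (nW K (wd g) * 1)) ⊓ fixR hK := by
        rw [Uw_eq hK g 1 (Subgroup.one_mem _)]
        exact hu'
      refine ⟨?_, ?_⟩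
      · have := uneg_conj_diag hD4 (nW K (wd g) * 1) t⁻¹ (Subgroup.inv_mem _ htd.1) u' hu'1.1
        rwa [inv_inv] at this
      · have htf : t ∈ fixR hK := twisted_le_fixR hK htd.2
        exact Subgroup.mul_mem _ (Subgroup.mul_mem _ (Subgroup.inv_mem _ htf) hu'1.2) htf
    have m3 : t' * u * t'⁻¹ ∈ chevF4.posUnipotent K ⊓ twistedF4 K (2 ^ m) := by
      refine ⟨?_, ?_⟩
      · exact (Subgroup.mem_normalizer_iff.1 (hHU ht'd.1) u).1 hu.1
      · exact Subgroup.mul_mem _ (Subgroup.mul_mem _ ht'd.2 hu.2) (Subgroup.inv_mem _ ht'd.2)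
    have m4 : (nW K (wd g))⁻¹ * t' * nW K (wd g) * h
        ∈ chevF4.diagonalSubgroup K ⊓ twistedF4 K (2 ^ m) := by
      refine Subgroup.mul_mem _ ⟨?_, ?_⟩ hh
      · exact (mono_normalizes (nW K (wd g)) t' (nW_mem_mono _) ht'd.1).2
      · exact Subgroup.mul_mem _ (Subgroup.mul_mem _ (Subgroup.inv_mem _ hnt) ht'd.2) hnt
    have e1 : u * nW K (wd g) * (h * t) * (t⁻¹ * u' * t)
        = t' * u * t'⁻¹ * nW K (wd g) * ((nW K (wd g))⁻¹ * t' * nW K (wd g) * h) * u' := by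
      have e2 : u * nW K (wd g) * (h * t) * (t⁻¹ * u' * t) = z * t := by rw [e]; group
      have e3 : t' * u * t'⁻¹ * nW K (wd g) * ((nW K (wd g))⁻¹ * t' * nW K (wd g) * h) * u'
          = t' * z := by rw [e]; group
      rw [e2, e3, ht'def]
      group
    obtain ⟨r1, -, r3⟩ := cell_unique hK g _ _ _ _ _ _ hu m3 m1 m4 m2 hu' e1
    exact ⟨r1.symm, r3⟩
  -- `u' = 1`
  have hu'1 : u' = 1 := by
    have hu'pos : u' ∈ chevF4.posUnipotent K := Uw_le_pos hK g hu'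
    have c : ∀ t ∈ P₀, t * u' = u' * t := by
      intro t ht
      have := (key t ht).2
      calc t * u' = t * (t⁻¹ * u' * t) := by rw [this]
        _ = u' * t := by group
    exact unip_comm_trivial hK hm7 ζ hζ u' hu'pos (c _ he₁) (c _ he₂)
  have hu1 : u = 1 := by
    have c : ∀ t' ∈ P₀, t' * u = u * t' := by
      intro t' ht'
      have ht : z⁻¹ * t' * z ∈ P₀ := by
        rw [hzP]
        have : z * (z⁻¹ * t' * z) * z⁻¹ = t' := by group
        rw [this]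
        exact ht'
      have := (key _ ht).1
      have e2 : z * (z⁻¹ * t' * z) * z⁻¹ = t' := by group
      rw [e2] at this
      calc t' * u = (t' * u * t'⁻¹) * t' := by group
        _ = u * t' := by rw [this]
    exact unip_comm_trivial hK hm7 ζ hζ u hu.1 (c _ he₁) (c _ he₂)
  refine ⟨?_, hz⟩
  rw [e, hu1, hu'1, one_mul, mul_one]
  exact Subgroup.mul_mem _ (nW_mem_mono _) (hHN hh.1)

/-- the sixteenth power of an element of `N¹` lies in `H¹` -/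
theorem pow16_mem_diag (hK : Fintype.card K = 2 ^ (2 * m + 1)) (z : GL chevF4.Idx K)
    (hz : z ∈ chevF4.monomialSubgroup K ⊓ twistedF4 K (2 ^ m)) :
    z ^ 16 ∈ chevF4.diagonalSubgroup K ⊓ twistedF4 K (2 ^ m) := by
  obtain ⟨φ, -, hker⟩ := weyl_dihedral hK
  have h1 : φ ((⟨z, hz⟩ : ↥(chevF4.monomialSubgroup K ⊓ twistedF4 K (2 ^ m))) ^ 16) = 1 := by
    rw [map_pow]
    have hc : Fintype.card (DihedralGroup 8) = 16 := by rw [DihedralGroup.card]
    rw [← hc]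
    exact pow_card_eq_one
  have h2 : (⟨z, hz⟩ : ↥(chevF4.monomialSubgroup K ⊓ twistedF4 K (2 ^ m))) ^ 16 ∈ φ.ker := h1
  rw [hker, Subgroup.mem_subgroupOf] at h2
  exact h2

end

end Cfsg.Agent.Lib.Helper8.AltF4
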