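import Cfsg.Agent.Lib.Helper8.F4T.Order
import Cfsg.Agent.Lib.Helper5.F4W.Core
import Mathlib

/-!
# The elements of order 7 of the torus of the large Ree group (helper8)

When 7 divides `q - 1`, the two elements `tauT (ζ, 1)` and `tauT (1, ζ)`, with `ζ` of order 7,
have no common fixed point other than 1 in the unipotent subgroup `U`.
-/

set_option autoImplicit false
set_option maxRecDepth 100000

namespace Cfsg.Agent.Lib.Helper8.AltF4

open Cfsg.Lie Cfsg.Agent.Lib.Helper5.Chev Cfsg.Agent.Lib.Helper5.GA Cfsg.Agent.Lib.Helper5.Tw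
open Cfsg.Agent.Lib.Helper5.Frob Cfsg.Agent.Lib.Helper5.Ree Cfsg.Agent.Lib.Helper5.St
open Cfsg.Agent.Lib.Helper5.F4W
open Cfsg.Agent.Lib.Helper8.F4T
open scoped Matrix

/-- no root is trivial on both elements of order 7 -/
theorem root_check : ∀ (v : ℕ) (hv : v < chevF4.nroots),
    ¬ (7 : ℤ) ∣ 2 * cartanM chevF4 j0 ⟨v, hv⟩ + cartanM chevF4 j3 ⟨v, hv⟩ ∨
    ¬ (7 : ℤ) ∣ 2 * cartanM chevF4 j1 ⟨v, hv⟩ + cartanM chevF4 j2 ⟨v, hv⟩ := by
  decide +kernel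

section

variable {K : Type*} [Field K]

/-- the elements of the diagonal subgroup commute -/
theorem diag_comm (a b : GL chevF4.Idx K) (ha : a ∈ chevF4.diagonalSubgroup K)
    (hb : b ∈ chevF4.diagonalSubgroup K) : a * b = b * a := by
  have ha' : a ∈ (chevF4.diagonalSubgroup K : Set (GL chevF4.Idx K)) := ha
  have hb' : b ∈ (chevF4.diagonalSubgroup K : Set (GL chevF4.Idx K)) := hb
  rw [range_hU (by simp)] at ha' hb'
  obtain ⟨c, rfl⟩ := ha'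
  obtain ⟨d, rfl⟩ := hb'
  rw [← map_mul, ← map_mul, mul_comm]

/-- an element of `U` commuting with two elements acting by characters, such that no positive
root is trivial on both, is trivial -/
theorem unip_eq_one [Finite K] (u : GL chevF4.Idx K) (hu : u ∈ chevF4.posUnipotent K)
    (e₁ e₂ : GL chevF4.Idx K) (χ₁ χ₂ : ℕ → Kˣ)
    (h₁ : ∀ s < chevF4.nroots, ∀ t : K, e₁ * (hadd4 K).xU s t * e₁⁻¹
      = (hadd4 K).xU s ((χ₁ s : K) * t))
    (h₂ : ∀ s < chevF4.nroots, ∀ t : K, e₂ * (hadd4 K).xU s t * e₂⁻¹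
      = (hadd4 K).xU s ((χ₂ s : K) * t))
    (hne : ∀ r ∈ L0, χ₁ r ≠ 1 ∨ χ₂ r ≠ 1)
    (c₁ : e₁ * u = u * e₁) (c₂ : e₂ * u = u * e₂) : u = 1 := by
  rw [← UL_eq_posUnipotent (K := K) ordL0] at hu
  obtain ⟨τ, rfl⟩ := exists_wordL (by simp) (hadd4 K) L0 ordL0.good u hu
  have hlt : ∀ q ∈ wordL L0 τ, q.1 < chevF4.nroots := by
    intro q hq
    unfold wordL at hq
    rw [List.mem_map] at hq
    obtain ⟨r, hr, rfl⟩ := hq
    exact (ordL0.pos r hr).1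
  have key : ∀ (e : GL chevF4.Idx K) (χ : ℕ → Kˣ),
      (∀ s < chevF4.nroots, ∀ t : K, e * (hadd4 K).xU s t * e⁻¹
        = (hadd4 K).xU s ((χ s : K) * t)) →
      e * (hadd4 K).wordU (wordL L0 τ) = (hadd4 K).wordU (wordL L0 τ) * e →
      ∀ r ∈ L0, (χ r : K) * τ r = τ r := by
    intro e χ hχ hc
    have h1 := conj_char_word4 e χ hχ (wordL L0 τ) hlt
    have h2 : (wordL L0 τ).map (fun p => (p.1, (χ p.1 : K) * p.2))
        = wordL L0 (fun r => (χ r : K) * τ r) := by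
      unfold wordL
      rw [List.map_map]
      rfl
    rw [h2, hc] at h1
    have h3 : (hadd4 K).wordU (wordL L0 τ) * e * e⁻¹ = (hadd4 K).wordU (wordL L0 τ) := by group
    rw [h3] at h1
    intro r hr
    exact (wordL_injective hD4 (hadd4 K) L0 ordL0 _ _ h1 r hr).symm
  have k1 := key e₁ χ₁ h₁ c₁
  have k2 := key e₂ χ₂ h₂ c₂
  apply wordL_zero4
  intro r hr
  have aux : ∀ χ : Kˣ, χ ≠ 1 → (χ : K) * τ r = τ r → τ r = 0 := by
    intro χ hχ he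
    by_contra h0
    apply hχ
    apply Units.ext
    have : (χ : K) * τ r = 1 * τ r := by rw [he, one_mul]
    exact mul_right_cancel₀ h0 this
  rcases hne r hr with h | h
  · exact aux _ h (k1 r hr)
  · exact aux _ h (k2 r hr)

end

section

variable {K : Type*} [Field K] [Fintype K] [CharP K 2] {m : ℕ}

omit [Fintype K] [CharP K 2] in
theorem pow_two_pow (hm7 : 2 ^ m % 7 = 2) (ζ : Kˣ) (hζ : ζ ^ 7 = 1) : ζ ^ 2 ^ m = ζ ^ 2 := by
  conv_lhs => rw [← Nat.div_add_mod (2 ^ m) 7, pow_add, pow_mul, hζ, one_pow, one_mul, hm7]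

/-- the characters of `tauT (ζ, 1)` -/
theorem char_fst (hK : Fintype.card K = 2 ^ (2 * m + 1)) (hm7 : 2 ^ m % 7 = 2) (ζ : Kˣ)
    (hζ : ζ ^ 7 = 1) : ∃ χ : ℕ → Kˣ,
    (∀ s < chevF4.nroots, ∀ u : K, tauT K m (ζ, 1) * (hadd4 K).xU s u * (tauT K m (ζ, 1))⁻¹
      = (hadd4 K).xU s ((χ s : K) * u)) ∧
    ∀ (v : ℕ) (hv : v < chevF4.nroots), χ v =
      ζ ^ (2 * cartanM chevF4 j0 ⟨v, hv⟩ + cartanM chevF4 j3 ⟨v, hv⟩) := by
  obtain ⟨χ, h1, h2⟩ := tauT_char hK ((ζ, 1) : Kˣ × Kˣ)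
  refine ⟨χ, h1, fun v hv => ?_⟩
  rw [h2 v hv]
  simp only [map_one, one_zpow, mul_one]
  rw [units_map_ph1, pow_two_pow hm7 ζ hζ, zpow_add, zpow_mul, zpow_ofNat]

/-- the characters of `tauT (1, ζ)` -/
theorem char_snd (hK : Fintype.card K = 2 ^ (2 * m + 1)) (hm7 : 2 ^ m % 7 = 2) (ζ : Kˣ)
    (hζ : ζ ^ 7 = 1) : ∃ χ : ℕ → Kˣ,
    (∀ s < chevF4.nroots, ∀ u : K, tauT K m (1, ζ) * (hadd4 K).xU s u * (tauT K m (1, ζ))⁻¹
      = (hadd4 K).xU s ((χ s : K) * u)) ∧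
    ∀ (v : ℕ) (hv : v < chevF4.nroots), χ v =
      ζ ^ (2 * cartanM chevF4 j1 ⟨v, hv⟩ + cartanM chevF4 j2 ⟨v, hv⟩) := by
  obtain ⟨χ, h1, h2⟩ := tauT_char hK ((1, ζ) : Kˣ × Kˣ)
  refine ⟨χ, h1, fun v hv => ?_⟩
  rw [h2 v hv]
  simp only [map_one, one_zpow, mul_one, one_mul]
  rw [units_map_ph1, pow_two_pow hm7 ζ hζ, zpow_add, zpow_mul, zpow_ofNat]

/-- an element of `U` commuting with `tauT (ζ, 1)` and `tauT (1, ζ)` is trivial -/
theorem unip_comm_trivial (hK : Fintype.card K = 2 ^ (2 * m + 1)) (hm7 : 2 ^ m % 7 = 2) (ζ : Kˣ)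
    (hζ : orderOf ζ = 7) (u : GL chevF4.Idx K) (hu : u ∈ chevF4.posUnipotent K)
    (c₁ : tauT K m (ζ, 1) * u = u * tauT K m (ζ, 1))
    (c₂ : tauT K m (1, ζ) * u = u * tauT K m (1, ζ)) : u = 1 := by
  have hζ7 : ζ ^ 7 = 1 := by rw [← hζ, pow_orderOf_eq_one]
  obtain ⟨χ₁, h₁, f₁⟩ := char_fst hK hm7 ζ hζ7
  obtain ⟨χ₂, h₂, f₂⟩ := char_snd hK hm7 ζ hζ7
  refine unip_eq_one u hu _ _ χ₁ χ₂ h₁ h₂ ?_ c₁ c₂
  intro r hr
  have hr' : r < chevF4.nroots := (ordL0.pos r hr).1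
  rcases root_check r hr' with h | h
  · left
    rw [f₁ r hr']
    intro h1
    apply h
    rw [← orderOf_dvd_iff_zpow_eq_one, hζ] at h1
    exact_mod_cast h1
  · right
    rw [f₂ r hr']
    intro h1
    apply h
    rw [← orderOf_dvd_iff_zpow_eq_one, hζ] at h1
    exact_mod_cast h1

end

end Cfsg.Agent.Lib.Helper8.AltF4
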